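import Cfsg.Agent.Mrg.Omega.IId.SwCv.NatM.Blk
import Cfsg.Agent.Mrg.Omega.IId.SwCv.ConcNat
import Cfsg.Agent.Mrg.Omega.IId.Cv.MixSide
import Cfsg.Agent.Mrg.Omega.IId.Cv.MixAny
import Cfsg.Agent.Mrg.Omega.IId.SymHalf


/-!
# THEOREM MIX-W (helper48): the mixed case for a member of type `(S_{2^m+1})^k`, every partner

`M : SymK T H V D k m` with labels and F1 (`FOne`), `n = {a, b}` a duad of the summand `i`, `C = C_G(n)`, `Q = O₂(C)`.
`V₁ ≤ Q` a four-group, `n ∈ V₁`, `N_G(V₁)` transitive on `V₁#`, some element of `V₁` acts on `V` as `(a b)`.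
If some 2-group `T'` of odd index in `C` satisfies `[b₀, T'] ≤ ⟨n⟩`, `b₀ = {a, o}`, then `⟨V₁^C⟩` and `⟨V^C⟩` are not both
abelian: `mix_w`.
-/

set_option autoImplicit false
set_option linter.unusedSectionVars false

namespace Cfsg.Agent.Omega.IId.SwCv.NatM

open Subgroup Cfsg Cfsg.Agent.Omega.FFThm
open Cfsg.Agent.ZN (o2)
open Lb (SwA)
open Cfsg.Agent.Omega.IId.NV (clC le_clC clC_conj clC_le clC_comm clC_sq conj_mem_clC)
open Cfsg.Agent.Omega.IId.One (Kk mem_Kk le_normalizer_Kk)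
open Cfsg.Agent.MinSimple.VModule (o2_isPGroup o2_le le_normalizer_o2)
open scoped commutatorElement

universe u

variable {G : Type u} [Group G] [Finite G] {T H V D : Subgroup G} {k m : ℕ} {M : SymK T H V D k m}
  {ε : Fin k → (Fin (2 ^ m + 1) → ZMod 2) → G} (h : Lb M ε) (hF : FOne M ε)
include h hF

omit [Finite G] in
/-- `V ≤ K_n` -/
theorem V_le_Kk {i : Fin k} {a b : Fin (2 ^ m + 1)} (hab : a ≠ b) : V ≤ Kk (du ε i a b) := by
  intro v hv
  refine mem_Kk.2 ⟨o2_le _ (hF.le i a b hab hv), fun x hx => ?_⟩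
  have h1 := hF.comm i a b hab x hx v hv
  have h2 : v * x * v⁻¹ * x⁻¹ = ⁅x, v⁆⁻¹ := by
    rw [commutatorElement_def]; group
  rw [h2]
  apply inv_mem
  rcases h1 with h1 | h1
  · rw [h1]; exact one_mem _
  · rw [h1]; exact mem_zpowers _

/-- **THEOREM MIX-W** -/
theorem mix_w {i : Fin k} {a b o : Fin (2 ^ m + 1)} (hab : a ≠ b) (hoa : o ≠ a) (hob : o ≠ b) (hm : 2 ≤ m)
    {V₁ : Subgroup G} (hV4 : Nat.card V₁ = 4) (hVsq : ∀ v ∈ V₁, v * v = 1) (hnV : du ε i a b ∈ V₁)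
    (hVt : ∀ v ∈ V₁, v ≠ 1 → ∃ g ∈ normalizer (V₁ : Set G), g * du ε i a b * g⁻¹ = v)
    (hVQ : V₁ ≤ o2 (centralizer ({du ε i a b} : Set G))) (hmove : ∃ v ∈ V₁, v ∈ H ∧ SwA M v i a b)
    (hW₁ : ∀ g ∈ centralizer ({du ε i a b} : Set G), ∀ v ∈ V₁, ∀ w ∈ V₁, v * (g * w * g⁻¹) = g * w * g⁻¹ * v)
    (hW : ∀ g ∈ centralizer ({du ε i a b} : Set G), ∀ v ∈ V, ∀ w ∈ V, v * (g * w * g⁻¹) = g * w * g⁻¹ * v)
    {T' : Subgroup G} (hT : T' ≤ centralizer ({du ε i a b} : Set G))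
    (hodd : ¬ 2 ∣ T'.relIndex (centralizer ({du ε i a b} : Set G)))
    (hbT : ∀ t ∈ T', du ε i a o * t * (du ε i a o)⁻¹ * t⁻¹ ∈ zpowers (du ε i a b)) : False := by
  set n := du ε i a b with hn
  set C := centralizer ({n} : Set G) with hC
  have hnn : n * n = 1 := h.du_mul_self i a b
  have hn1 : n ≠ 1 := h.du_ne_one hab
  have hVle : V ≤ o2 C := hF.le i a b hab
  have hCn : ∀ g : G, g * n = n * g → g ∈ C := fun g hg => mem_centralizer_singleton_iff.2 hg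
  set W₁ := clC C V₁ with hW₁def
  set W' := clC C V with hW'def
  have hCQ : C ≤ normalizer (o2 C : Set G) := le_normalizer_o2 _
  have hW₁Q : W₁ ≤ o2 C := clC_le hCQ hVQ
  have hW'Q : W' ≤ o2 C := clC_le hCQ hVle
  have hW'K : W' ≤ Kk n := clC_le (le_normalizer_Kk n) (V_le_Kk h hF hab)
  have W₁_comm : ∀ x ∈ W₁, ∀ y ∈ W₁, x * y = y * x := clC_comm hW₁
  have W₁_sq : ∀ x ∈ W₁, x * x = 1 := clC_sq hW₁ hVsq
  have W'_comm : ∀ x ∈ W', ∀ y ∈ W', x * y = y * x := clC_comm hW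
  have W'_sq : ∀ x ∈ W', x * x = 1 := clC_sq hW fun v hv => h.mul_self hv
  have hV₁W : V₁ ≤ W₁ := le_clC
  have hVW : V ≤ W' := le_clC
  have hmemR : ∀ g, g ∈ zpowers n ↔ g = 1 ∨ g = n := fun g => MixAny.mem_zp hnn
  have comm1 : ∀ c ∈ o2 C, ∀ y ∈ W', c * y * c⁻¹ * y⁻¹ = 1 ∨ c * y * c⁻¹ * y⁻¹ = n := by
    intro c hc y hy
    rw [← hmemR]
    have h1 := (mem_Kk.1 (hW'K hy)).2 c hc
    have e : c * y * c⁻¹ * y⁻¹ = (y * c * y⁻¹ * c⁻¹)⁻¹ := by group
    rw [e]; exact inv_mem h1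
  obtain ⟨v₀, hv₀, hv₀H, hvs⟩ := hmove
  -- duads `{a, c}` move `V₁`
  have move : ∀ c, c ≠ a → c ≠ b → ¬ ∀ v ∈ V₁, du ε i a c * v = v * du ε i a c := by
    intro c hca hcb hall
    have h1 := hall v₀ hv₀
    have h2 := sw_du h hv₀H hvs a c
    rw [← h1, mul_inv_cancel_right, Equiv.swap_apply_left, Equiv.swap_apply_of_ne_of_ne hca hcb] at h2
    rcases (du_inj h (Ne.symm hca) (Ne.symm hcb) h2).2 with ⟨h3, -⟩ | ⟨h3, -⟩
    · exact hab h3
    · exact hca h3.symm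
  have hdW' : ∀ x y, du ε i x y ∈ W' := fun x y => hVW (h.du_mem i x y)
  -- the node at `V₁`
  have N1 : MixAny.Node V₁ W' W₁ n :=
    { card := hV4
      sq := hVsq
      n_mem := hnV
      n_ne := hn1
      trans := hVt
      nA := fun g hg y hy => clC_conj (hCn g hg) hy
      nC := fun g hg y hy => clC_conj (hCn g hg) hy
      A_comm := W'_comm
      A_sq := W'_sq
      C_comm := W₁_comm
      C_sq := W₁_sq
      n_A := hdW' a b
      V_C := hV₁W
      CA := fun c hc y hy => comm1 c (hW₁Q hc) y hy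
      move := by
        by_contra hcon
        push Not at hcon
        exact move o hoa hob fun v hv => hcon _ (hdW' a o) v hv }
  have s := N1.side
  let i₀ : MixAny.Pt V₁ := ⟨n, hnV, hn1⟩
  have hB : MixAny.tr W' n n = W' := N1.tr_n
  have hC₁ : MixAny.tr W₁ n n = W₁ := N1.tr_n'
  have hzn : normalizer (zpowers n : Set G) = C := N1.norm_zp
  set B₀ := ⨅ x : MixAny.Pt V₁, MixAny.tr W' n x.1 with hB₀
  -- letters
  obtain ⟨x, y, z, hxa, hxb, hya, hyb, hza, hzb, hxy, hxz, hyz⟩ : ∃ x y z : Fin (2 ^ m + 1),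
      x ≠ a ∧ x ≠ b ∧ y ≠ a ∧ y ≠ b ∧ z ≠ a ∧ z ≠ b ∧ x ≠ y ∧ x ≠ z ∧ y ≠ z := by
    have hc : 2 < (Finset.univ \ {a, b} : Finset (Fin (2 ^ m + 1))).card := by
      have h1 : (Finset.univ \ {a, b} : Finset (Fin (2 ^ m + 1))).card = 2 ^ m + 1 - ({a, b} : Finset _).card := by
        rw [Finset.card_sdiff_of_subset (Finset.subset_univ _), Finset.card_univ, Fintype.card_fin]
      have h2 : ({a, b} : Finset (Fin (2 ^ m + 1))).card ≤ 2 := Finset.card_le_two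
      have h3 : 4 ≤ 2 ^ m := by
        calc 4 = 2 ^ 2 := by norm_num
          _ ≤ 2 ^ m := Nat.pow_le_pow_right (by norm_num) hm
      omega
    obtain ⟨x, hx, y, hy, z, hz, h1, h2, h3⟩ := Finset.two_lt_card.1 hc
    simp only [Finset.mem_sdiff, Finset.mem_univ, true_and, Finset.mem_insert, Finset.mem_singleton, not_or] at hx hy hz
    exact ⟨x, y, z, hx.1, hx.2, hy.1, hy.2, hz.1, hz.2, h1, h2, h3⟩
  -- duads off `n` lie in `I`
  have hI : ∀ c d, c ≠ a → c ≠ b → d ≠ a → d ≠ b →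
      du ε i c d ∈ MixAny.tr W' n n ⊓ Mix.YY (MixAny.tr W' n n) (MixAny.tr W₁ n n) := by
    intro c d hca hcb hda hdb
    rw [hB, hC₁]
    have hcen : ∀ q ∈ o2 C, du ε i c d * q = q * du ε i c d := by
      intro q hq
      refine (hF.perp i a b hab q hq _ (h.du_mem i c d) ?_).symm
      rw [h.e_du, Pi.single_eq_same, Pi.add_apply, Pi.add_apply, Pi.single_eq_of_ne (Ne.symm hca),
        Pi.single_eq_of_ne (Ne.symm hda), Pi.single_eq_of_ne (Ne.symm hcb), Pi.single_eq_of_ne (Ne.symm hdb)]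
    refine mem_inf.2 ⟨hdW' c d, ?_⟩
    rw [Mix.mem_YY]
    exact ⟨fun y hy => hcen y (hW'Q hy), fun y hy => hcen y (hW₁Q hy)⟩
  -- good elements
  have good : ∀ c d e, c ≠ a → c ≠ b → d ≠ a → d ≠ b → e ≠ a → e ≠ b → c ≠ d → e ≠ c → e ≠ d → du ε i c d ∉ B₀ := by
    intro c d e hca hcb hda hdb hea heb hcd hec hed hz
    refine MixAny.false_of_goodPt s (i := i₀) hmemR (b := du ε i a e) (z := du ε i c d) (hB.symm ▸ hdW' a e)
      (move e hea heb) hz (hF.le i c d hcd (h.du_mem i a b)) fun q hq => ?_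
    refine (hF.perp i c d hcd q hq _ (h.du_mem i a e) ?_).symm
    rw [h.e_du, Pi.single_eq_same, Pi.add_apply, Pi.add_apply, Pi.single_eq_of_ne hca,
      Pi.single_eq_of_ne (Ne.symm hec), Pi.single_eq_of_ne hda, Pi.single_eq_of_ne (Ne.symm hed)]
  -- the count
  obtain ⟨j₁, hj₁, -⟩ := s.third i₀ i₀
  have hidx : B₀.relIndex (MixAny.tr W' n n ⊓ Mix.YY (MixAny.tr W' n n) (MixAny.tr W₁ n n)) ≤ 2 ^ (0 + 1) := by
    refine MixAny.relIndex_B0_le s (i := i₀) (j := j₁) hj₁.symm ?_ (T := T') ?_ (d := 0) ?_ (b := du ε i a o)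
      (hB.symm ▸ hdW' a o) (move o hoa hob) hbT
    · change Nat.card (zpowers j₁.1) = 2
      rw [Nat.card_zpowers]
      exact orderOf_eq_prime (by rw [pow_two]; exact hVsq _ j₁.2.1) j₁.2.2
    · change T' ≤ normalizer (zpowers n : Set G)
      rw [hzn]; exact hT
    · change ¬ 2 ^ (0 + 1) ∣ T'.relIndex (normalizer (zpowers n : Set G))
      rw [hzn, zero_add, pow_one]; exact hodd
  let f : Fin 3 → G := ![1, du ε i x y, du ε i x z]
  have hfI : ∀ t, f t ∈ MixAny.tr W' n n ⊓ Mix.YY (MixAny.tr W' n n) (MixAny.tr W₁ n n) := by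
    intro t
    fin_cases t
    · exact one_mem _
    · exact hI x y hxa hxb hya hyb
    · exact hI x z hxa hxb hza hzb
  obtain ⟨s', t', hst, hq⟩ := MixAny.exists_pigeon (B₀ := B₀) f hfI (by
    refine lt_of_le_of_lt hidx ?_
    rw [Nat.card_eq_fintype_card, Fintype.card_fin]
    norm_num)
  have inv_xy : (du ε i x y)⁻¹ = du ε i x y := h.inv_eq (h.du_mem i x y)
  have inv_xz : (du ε i x z)⁻¹ = du ε i x z := h.inv_eq (h.du_mem i x z)
  have h1 : du ε i x y ∉ B₀ := good x y z hxa hxb hya hyb hza hzb hxy (Ne.symm hxz) (Ne.symm hyz)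
  have h2 : du ε i x z ∉ B₀ := good x z y hxa hxb hza hzb hya hyb hxz (Ne.symm hxy) hyz
  have h3 : du ε i y z ∉ B₀ := good y z x hya hyb hza hzb hxa hxb hyz hxy hxz
  have e3 : du ε i x y * du ε i x z = du ε i y z := by
    rw [Lb.du_comm i x y, Lb.du_comm i x z]
    exact h.du_mul i y z x
  have e4 : du ε i x z * du ε i x y = du ε i y z := by
    rw [h.comm _ (h.du_mem i x z) _ (h.du_mem i x y), e3]
  fin_cases s' <;> fin_cases t'
  · exact hst rfl
  · refine h1 ?_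
    have : (f 0)⁻¹ * f 1 = du ε i x y := by change (1 : G)⁻¹ * du ε i x y = _; group
    rw [← this]; exact hq
  · refine h2 ?_
    have : (f 0)⁻¹ * f 2 = du ε i x z := by change (1 : G)⁻¹ * du ε i x z = _; group
    rw [← this]; exact hq
  · refine h1 ?_
    have : (f 1)⁻¹ * f 0 = du ε i x y := by change (du ε i x y)⁻¹ * 1 = _; rw [inv_xy, mul_one]
    rw [← this]; exact hq
  · exact hst rfl
  · refine h3 ?_
    have : (f 1)⁻¹ * f 2 = du ε i y z := by change (du ε i x y)⁻¹ * du ε i x z = _; rw [inv_xy, e3]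
    rw [← this]; exact hq
  · refine h2 ?_
    have : (f 2)⁻¹ * f 0 = du ε i x z := by change (du ε i x z)⁻¹ * 1 = _; rw [inv_xz, mul_one]
    rw [← this]; exact hq
  · refine h3 ?_
    have : (f 2)⁻¹ * f 1 = du ε i y z := by change (du ε i x z)⁻¹ * du ε i x y = _; rw [inv_xz, e4]
    rw [← this]; exact hq
  · exact hst rfl

end Cfsg.Agent.Omega.IId.SwCv.NatM
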