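import Cfsg.Agent.Mrg.Omega.IId.SwCv.Lab


/-!
# `u` commutes with the stabiliser of the block `i` (helper48 #20133 (7), first half)

`n = {a, b}`, `u` is centralised by `C_H(n)` and by elements inducing `(a o)` and `(b o)` : then by every element of
`H` fixing the block `i`.
-/

set_option autoImplicit false
set_option linter.unusedSectionVars false

namespace Cfsg.Agent.Omega.IId.SwCv.NatM

open Subgroup Cfsg Cfsg.Agent.Omega.FFThm
open Lb (SwA)

universe u

theorem ai {α : Type*} (σ : Equiv.Perm α) (x : α) : σ (σ⁻¹ x) = x := σ.apply_symm_apply x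

theorem ia {α : Type*} (σ : Equiv.Perm α) (x : α) : σ⁻¹ (σ x) = x := σ.symm_apply_apply x

variable {G : Type u} [Group G] {T H V D : Subgroup G} {k m : ℕ} {M : SymK T H V D k m}
  {ε : Fin k → (Fin (2 ^ m + 1) → ZMod 2) → G} (h : Lb M ε)
include h

/-- products -/
theorem acts_mul {x y : G} (hy : y ∈ H) {σ σ' : Equiv.Perm (Fin k)}
    {τ τ' : Fin k → Equiv.Perm (Fin (2 ^ m + 1))} (hx' : ActsSym M.e V x σ τ) (hy' : ActsSym M.e V y σ' τ') :
    ActsSym M.e V (x * y) (σ * σ') (fun j => τ (σ' j) * τ' j) := by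
  intro v hv j z
  have h1 := hx' _ (h.conj_mem hy hv) (σ' j) (τ' j z)
  have h2 := hy' v hv j z
  have e : x * y * v * (x * y)⁻¹ = x * (y * v * y⁻¹) * x⁻¹ := by group
  rw [e]
  change M.e (x * (y * v * y⁻¹) * x⁻¹) (σ (σ' j)) (τ (σ' j) (τ' j z)) = _
  rw [h1, h2]

/-- inverses -/
theorem acts_inv {x : G} (hx : x ∈ H) {σ : Equiv.Perm (Fin k)}
    {τ : Fin k → Equiv.Perm (Fin (2 ^ m + 1))} (hx' : ActsSym M.e V x σ τ) :
    ActsSym M.e V x⁻¹ σ⁻¹ (fun j => (τ (σ⁻¹ j))⁻¹) := by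
  intro v hv j z
  have h1 := hx' _ (h.conj_mem (inv_mem hx) hv) (σ⁻¹ j) ((τ (σ⁻¹ j))⁻¹ z)
  have e : x * (x⁻¹ * v * x⁻¹⁻¹) * x⁻¹ = v := by group
  rw [e, ai, ai] at h1
  exact h1.symm

/-- conjugates of transpositions -/
theorem SwA_conj {g w : G} (hg : g ∈ H) (hwH : w ∈ H) {σ : Equiv.Perm (Fin k)}
    {τ : Fin k → Equiv.Perm (Fin (2 ^ m + 1))}
    (ha : ActsSym M.e V g σ τ) {i : Fin k} {a b : Fin (2 ^ m + 1)} (hw : SwA M w i a b) :
    SwA M (g * w * g⁻¹) (σ i) (τ i a) (τ i b) := by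
  have h1 := acts_mul h (inv_mem hg) (acts_mul h hwH ha hw) (acts_inv h hg ha)
  have e1 : σ * 1 * σ⁻¹ = 1 := by rw [mul_one, mul_inv_cancel]
  rw [e1] at h1
  have e2 : (fun j => τ ((1 : Equiv.Perm (Fin k)) (σ⁻¹ j)) *
      Function.update (1 : Fin k → Equiv.Perm (Fin (2 ^ m + 1))) i (Equiv.swap a b) (σ⁻¹ j) * (τ (σ⁻¹ j))⁻¹) =
      Function.update (1 : Fin k → Equiv.Perm (Fin (2 ^ m + 1))) (σ i) (Equiv.swap (τ i a) (τ i b)) := by
    funext j
    change τ (σ⁻¹ j) * _ * _ = _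
    by_cases hj : j = σ i
    · subst hj
      rw [ia, Function.update_self, Function.update_self,
        Equiv.swap_apply_apply]
    · have hj' : σ⁻¹ j ≠ i := fun h0 => hj (by rw [← h0, ai])
      rw [Function.update_of_ne hj', Function.update_of_ne hj, Pi.one_apply, Pi.one_apply, mul_one,
        mul_inv_cancel]
  change ActsSym M.e V (g * w * g⁻¹) 1 _
  rw [← e2]
  exact h1

omit h in
/-- an element inducing a given transposition -/
theorem exists_sw (M : SymK T H V D k m) (i : Fin k) (c d : Fin (2 ^ m + 1)) : ∃ y ∈ H, SwA M y i c d := by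
  obtain ⟨y, hy, hy', -⟩ := M.lift (Function.update 1 i (Equiv.swap c d))
  exact ⟨y, hy, hy'⟩

/-- the image of a duad under a transposition -/
theorem sw_du {y : G} (hy : y ∈ H) {i : Fin k} {c d : Fin (2 ^ m + 1)} (hs : SwA M y i c d)
    (x z : Fin (2 ^ m + 1)) :
    y * du ε i x z * y⁻¹ = du ε i (Equiv.swap c d x) (Equiv.swap c d z) := by
  have h1 := h.conj_du hy hs i x z
  rw [Function.update_self] at h1
  exact h1

/-- a duad determines its block and its points -/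
theorem du_inj {j i : Fin k} {x y c d : Fin (2 ^ m + 1)} (hxy : x ≠ y) (hcd : c ≠ d)
    (he : du ε j x y = du ε i c d) : j = i ∧ ((x = c ∧ y = d) ∨ (x = d ∧ y = c)) := by
  have h1 := h.e_du j x y
  rw [he, h.e_du] at h1
  have hji : j = i := by
    by_contra hne
    have h2 := congrFun (congrFun h1 i) c
    rw [Pi.single_eq_same, Pi.single_eq_of_ne (Ne.symm hne), Pi.add_apply, Pi.single_eq_same,
      Pi.single_eq_of_ne hcd, add_zero] at h2
    exact one_ne_zero h2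
  subst hji
  refine ⟨rfl, ?_⟩
  have h2 : ∀ z, (Pi.single c 1 + Pi.single d 1 : Fin (2 ^ m + 1) → ZMod 2) z =
      (Pi.single x 1 + Pi.single y 1 : Fin (2 ^ m + 1) → ZMod 2) z := by
    intro z
    have h3 := congrFun (congrFun h1 j) z
    rwa [Pi.single_eq_same, Pi.single_eq_same] at h3
  have key : ∀ p q r s : Fin (2 ^ m + 1), p ≠ q → (∀ z, (Pi.single p 1 + Pi.single q 1 : Fin (2 ^ m + 1) → ZMod 2) z =
      (Pi.single r 1 + Pi.single s 1 : Fin (2 ^ m + 1) → ZMod 2) z) → p = r ∨ p = s := by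
    intro p q r s hpq hh
    by_contra hcon
    push Not at hcon
    have h4 := hh p
    rw [Pi.add_apply, Pi.add_apply, Pi.single_eq_same, Pi.single_eq_of_ne hpq, Pi.single_eq_of_ne hcon.1,
      Pi.single_eq_of_ne hcon.2, add_zero, add_zero] at h4
    exact one_ne_zero h4
  have hx := key x y c d hxy fun z => (h2 z).symm
  have hy := key y x c d (Ne.symm hxy) fun z => by rw [h2 z, add_comm]
  rcases hx with hx | hx <;> rcases hy with hy | hy
  · exact absurd (hx.trans hy.symm) hxy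
  · exact Or.inl ⟨hx, hy⟩
  · exact Or.inr ⟨hx, hy⟩
  · exact absurd (hx.trans hy.symm) hxy

/-- an element of `A_{cd}` inducing the transposition `(c d)` -/
theorem exists_conj_sw {g w u : G} (hg : g ∈ H) (hw : w ∈ H) {i : Fin k} {a b c d : Fin (2 ^ m + 1)} (hab : a ≠ b)
    (hcd : c ≠ d) (hgn : g * du ε i a b * g⁻¹ = du ε i c d) (hs : SwA M w i a b)
    (hu : g * w * g⁻¹ * u = u * (g * w * g⁻¹)) : ∃ x ∈ H, x * u = u * x ∧ SwA M x i c d := by
  obtain ⟨σ, τ, ha⟩ := M.perm g hg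
  have h1 := h.conj_du hg ha i a b
  rw [hgn] at h1
  obtain ⟨h2, h3⟩ := du_inj h (fun h0 => hab ((τ i).injective h0)) hcd h1.symm
  refine ⟨g * w * g⁻¹, mul_mem (mul_mem hg hw) (inv_mem hg), hu, ?_⟩
  have h4 := SwA_conj h hg hw ha hs
  rw [h2] at h4
  rcases h3 with ⟨h5, h6⟩ | ⟨h5, h6⟩
  · rw [h5, h6] at h4; exact h4
  · rw [h5, h6] at h4
    rw [SwA, Equiv.swap_comm]
    exact h4

/-- **`u` is centralised by the stabiliser of the block `i`.** -/
theorem comm_block {i : Fin k} {a b o : Fin (2 ^ m + 1)} (hab : a ≠ b) (hoa : o ≠ a) (hob : o ≠ b) {u : G}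
    (hn : ∀ g ∈ H, g * du ε i a b = du ε i a b * g → g * u = u * g)
    (hao : ∃ x ∈ H, x * u = u * x ∧ SwA M x i a o) (hbo : ∃ x ∈ H, x * u = u * x ∧ SwA M x i b o)
    {g : G} (hg : g ∈ H) {σ : Equiv.Perm (Fin k)} {τ : Fin k → Equiv.Perm (Fin (2 ^ m + 1))}
    (ha : ActsSym M.e V g σ τ) (hσ : σ i = i) : g * u = u * g := by
  set n := du ε i a b with hnd
  -- `Q p` : `p` is conjugate to `n` under an element of `H` centralising `u`
  have comp : ∀ p : G, ∀ y ∈ H, y * u = u * y →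
      (∃ x ∈ H, x * u = u * x ∧ x * (y * p * y⁻¹) * x⁻¹ = n) → ∃ x ∈ H, x * u = u * x ∧ x * p * x⁻¹ = n := by
    rintro p y hy hyu ⟨x, hx, hxu, e⟩
    refine ⟨x * y, mul_mem hx hy, ?_, by rw [← e]; group⟩
    rw [mul_assoc, hyu, ← mul_assoc, hxu, mul_assoc]
  -- transpositions off `{a, b}` centralise `u`
  have hsw : ∀ c d : Fin (2 ^ m + 1), c ≠ a → c ≠ b → d ≠ a → d ≠ b → ∃ y ∈ H, y * u = u * y ∧ SwA M y i c d := by
    intro c d hca hcb hda hdb
    obtain ⟨y, hy, hs⟩ := exists_sw M i c d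
    refine ⟨y, hy, hn y hy ?_, hs⟩
    have h1 := sw_du h hy hs a b
    rw [Equiv.swap_apply_of_ne_of_ne (Ne.symm hca) (Ne.symm hda),
      Equiv.swap_apply_of_ne_of_ne (Ne.symm hcb) (Ne.symm hdb)] at h1
    exact mul_inv_eq_iff_eq_mul.1 h1
  have Qab : ∃ x ∈ H, x * u = u * x ∧ x * du ε i a b * x⁻¹ = n := ⟨1, one_mem _, by group, by rw [hnd]; group⟩
  have Qao : ∃ x ∈ H, x * u = u * x ∧ x * du ε i a o * x⁻¹ = n := by
    obtain ⟨x, hx, hxu, hs⟩ := hbo
    refine ⟨x, hx, hxu, ?_⟩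
    rw [sw_du h hx hs, Equiv.swap_apply_of_ne_of_ne hab (Ne.symm hoa), Equiv.swap_apply_right]
  have Qbo : ∃ x ∈ H, x * u = u * x ∧ x * du ε i b o * x⁻¹ = n := by
    obtain ⟨x, hx, hxu, hs⟩ := hao
    refine ⟨x, hx, hxu, ?_⟩
    rw [sw_du h hx hs, Equiv.swap_apply_of_ne_of_ne (Ne.symm hab) (Ne.symm hob), Equiv.swap_apply_right,
      Lb.du_comm]
  have Qad : ∀ d, d ≠ a → d ≠ b → ∃ x ∈ H, x * u = u * x ∧ x * du ε i a d * x⁻¹ = n := by
    intro d hda hdb
    obtain ⟨y, hy, hyu, hs⟩ := hsw d o hda hdb hoa hob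
    refine comp _ y hy hyu ?_
    rw [sw_du h hy hs, Equiv.swap_apply_of_ne_of_ne (Ne.symm hda) (Ne.symm hoa), Equiv.swap_apply_left]
    exact Qao
  have Qbd : ∀ d, d ≠ a → d ≠ b → ∃ x ∈ H, x * u = u * x ∧ x * du ε i b d * x⁻¹ = n := by
    intro d hda hdb
    obtain ⟨y, hy, hyu, hs⟩ := hsw d o hda hdb hoa hob
    refine comp _ y hy hyu ?_
    rw [sw_du h hy hs, Equiv.swap_apply_of_ne_of_ne (Ne.symm hdb) (Ne.symm hob), Equiv.swap_apply_left]
    exact Qbo
  have Qod : ∀ d, d ≠ a → d ≠ b → d ≠ o → ∃ x ∈ H, x * u = u * x ∧ x * du ε i o d * x⁻¹ = n := by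
    intro d hda hdb hdo
    obtain ⟨y, hy, hyu, hs⟩ := hao
    refine comp _ y hy hyu ?_
    rw [sw_du h hy hs, Equiv.swap_apply_right, Equiv.swap_apply_of_ne_of_ne hda hdo]
    exact Qad d hda hdb
  have Qcd : ∀ c d, c ≠ a → c ≠ b → d ≠ a → d ≠ b → c ≠ d →
      ∃ x ∈ H, x * u = u * x ∧ x * du ε i c d * x⁻¹ = n := by
    intro c d hca hcb hda hdb hcd
    obtain ⟨y, hy, hyu, hs⟩ := hsw c o hca hcb hoa hob
    refine comp _ y hy hyu ?_
    rw [sw_du h hy hs, Equiv.swap_apply_left]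
    by_cases hdo : d = o
    · subst hdo
      rw [Equiv.swap_apply_right]
      exact Qod c hca hcb hcd
    · rw [Equiv.swap_apply_of_ne_of_ne (Ne.symm hcd) hdo]
      exact Qod d hda hdb hdo
  have Q : ∀ c d, c ≠ d → ∃ x ∈ H, x * u = u * x ∧ x * du ε i c d * x⁻¹ = n := by
    intro c d hcd
    by_cases hca : c = a
    · subst hca
      by_cases hdb : d = b
      · subst hdb; exact Qab
      · exact Qad d (Ne.symm hcd) hdb
    · by_cases hcb : c = b
      · subst hcb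
        by_cases hda : d = a
        · subst hda
          rw [Lb.du_comm]; exact Qab
        · exact Qbd d hda (Ne.symm hcd)
      · by_cases hda : d = a
        · subst hda
          rw [Lb.du_comm]; exact Qad c hca hcb
        · by_cases hdb : d = b
          · subst hdb
            rw [Lb.du_comm]; exact Qbd c hca hcb
          · exact Qcd c d hca hcb hda hdb hcd
  -- the element `g`
  obtain ⟨x, hx, hxu, e⟩ := Q (τ i a) (τ i b) fun h0 => hab ((τ i).injective h0)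
  have h1 := h.conj_du hg ha i a b
  rw [hσ] at h1
  have h2 : x * g * n * (x * g)⁻¹ = n := by
    rw [← h1] at e
    rw [← e]
    have : x * g * n * (x * g)⁻¹ = x * (g * n * g⁻¹) * x⁻¹ := by group
    rw [e, this]
    rw [hnd, e]
  have h3 := hn _ (mul_mem hx hg) (mul_inv_eq_iff_eq_mul.1 h2)
  have h4 : x * (g * u) = x * (u * g) := by
    calc x * (g * u) = x * g * u := by group
      _ = u * (x * g) := h3
      _ = u * x * g := by group
      _ = x * u * g := by rw [hxu]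
      _ = x * (u * g) := by group
  exact mul_left_cancel h4

end Cfsg.Agent.Omega.IId.SwCv.NatM
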